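import Cfsg.Agent.H539.Lim.DefsC

/-!
# Best offenders, norm-good subgroups and transvections under conjugation; counting (helper16, for S5242)

* `card_DFix_cj`, `bo_cj`, `ngood_cj`, `tv_cj`, `Wt_smul`, `isInv_Q0`, `isInv_Qs`, `isInv_Q1`;
* `even_card_of_fixedPointFree`; `exists_exp`, `exists_inv_mod` : exponents and inverses of odd numbers;
* `stabilizer_smul`, `Orb2.pset` : a Sylow orbit is a `PSet`.
-/

set_option autoImplicit false
set_option linter.unusedSectionVars false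

namespace Cfsg.Agent.H16.Lim

open MulAction Cfsg.Agent.H539.Lim

universe u v w

section Cj

variable {G : Type u} [Group G]

theorem mem_cj {g : G} {P : Subgroup G} {x : G} : x ∈ cj g P ↔ g⁻¹ * x * g ∈ P := by
  constructor
  · rintro ⟨y, hy, rfl⟩
    have : g⁻¹ * (MulAut.conj g).toMonoidHom y * g = y := by
      change g⁻¹ * (g * y * g⁻¹) * g = y
      group
    rwa [this]
  · intro h
    refine ⟨_, h, ?_⟩
    change g * (g⁻¹ * x * g) * g⁻¹ = x
    group

theorem cj_cj (g h : G) (P : Subgroup G) : cj g (cj h P) = cj (g * h) P := by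
  ext x
  rw [mem_cj, mem_cj, mem_cj]
  have : h⁻¹ * (g⁻¹ * x * g) * h = (g * h)⁻¹ * x * (g * h) := by group
  rw [this]

theorem cj_one (P : Subgroup G) : cj 1 P = P := by
  ext x
  rw [mem_cj]
  simp

theorem cj_inv_cj (g : G) (P : Subgroup G) : cj g⁻¹ (cj g P) = P := by
  rw [cj_cj, inv_mul_cancel, cj_one]

theorem cj_cj_inv (g : G) (P : Subgroup G) : cj g (cj g⁻¹ P) = P := by
  rw [cj_cj, mul_inv_cancel, cj_one]

theorem cj_mono {P Q : Subgroup G} (g : G) (h : P ≤ Q) : cj g P ≤ cj g Q := Subgroup.map_mono h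

theorem cj_le_cj {P Q : Subgroup G} (g : G) : cj g P ≤ cj g Q ↔ P ≤ Q := by
  refine ⟨fun h => ?_, cj_mono g⟩
  have := cj_mono g⁻¹ h
  rwa [cj_inv_cj, cj_inv_cj] at this

theorem cj_le_iff {P Q : Subgroup G} (g : G) : cj g P ≤ Q ↔ P ≤ cj g⁻¹ Q := by
  rw [← cj_le_cj g⁻¹, cj_inv_cj]

theorem cj_inf (g : G) (P Q : Subgroup G) : cj g (P ⊓ Q) = cj g P ⊓ cj g Q := by
  ext x
  rw [Subgroup.mem_inf, mem_cj, mem_cj, mem_cj, Subgroup.mem_inf]

theorem card_cj (g : G) (P : Subgroup G) : Nat.card (cj g P) = Nat.card P :=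
  Subgroup.card_map_of_injective (MulAut.conj g).injective

theorem cj_ne_bot {g : G} {P : Subgroup G} (h : P ≠ ⊥) : cj g P ≠ ⊥ := by
  intro h1
  apply h
  rw [← cj_inv_cj g P, h1]
  exact Subgroup.map_bot _

theorem isPGroup_cj {p : ℕ} {P : Subgroup G} (h : IsPGroup p P) (g : G) : IsPGroup p (cj g P) :=
  h.map _

variable {Ω : Type v} [MulAction G Ω]

theorem stabilizer_smul (g : G) (x : Ω) : stabilizer G (g • x) = cj g (stabilizer G x) :=
  MulAction.stabilizer_smul_eq_stabilizer_map_conj g x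

end Cj

section Mod

variable {G : Type u} [Group G] {D : Type w} [AddCommGroup D] [DistribMulAction G D]

theorem mem_DFix {P : Subgroup G} {d : D} : d ∈ DFix P D ↔ ∀ u ∈ P, u • d = d := Iff.rfl

theorem smul_mem_DFix_cj {g : G} {P : Subgroup G} {d : D} : g • d ∈ DFix (cj g P) D ↔ d ∈ DFix P D := by
  rw [mem_DFix, mem_DFix]
  constructor
  · intro h u hu
    have h1 := h (g * u * g⁻¹) (by rw [mem_cj]; simpa [mul_assoc] using hu)
    have h2 : (g * u * g⁻¹) • g • d = g • u • d := by rw [smul_smul, smul_smul]; congr 1; group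
    rw [h2] at h1
    exact smul_left_cancel g h1
  · intro h u hu
    rw [mem_cj] at hu
    have h1 : u • g • d = g • (g⁻¹ * u * g) • d := by rw [smul_smul, smul_smul]; congr 1; group
    rw [h1, h _ hu]

theorem card_DFix_cj (g : G) (P : Subgroup G) : Nat.card (DFix (cj g P) D) = Nat.card (DFix P D) := by
  refine Nat.card_congr (Equiv.symm ?_)
  refine ⟨fun d => ⟨g • d.1, smul_mem_DFix_cj.2 d.2⟩, fun d => ⟨g⁻¹ • d.1, ?_⟩, fun d => ?_, fun d => ?_⟩
  · rw [← smul_mem_DFix_cj (g := g), smul_inv_smul]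
    exact d.2
  · exact Subtype.ext (inv_smul_smul g d.1)
  · exact Subtype.ext (smul_inv_smul g d.1)

theorem isAb_cj {A : Subgroup G} (h : IsAb A) (g : G) : IsAb (cj g A) := by
  intro a ha b hb
  rw [mem_cj] at ha hb
  have h1 := h _ ha _ hb
  have h2 : g⁻¹ * (a * b) * g = g⁻¹ * (b * a) * g := by
    calc g⁻¹ * (a * b) * g = (g⁻¹ * a * g) * (g⁻¹ * b * g) := by group
      _ = (g⁻¹ * b * g) * (g⁻¹ * a * g) := h1
      _ = g⁻¹ * (b * a) * g := by group
  exact mul_left_cancel (mul_right_cancel h2)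

theorem bo_cj {A : Subgroup G} (h : BO D A) (g : G) : BO D (cj g A) := by
  refine ⟨isAb_cj h.1 g, fun B hB => ?_⟩
  have h1 : cj g⁻¹ B ≤ A := by
    have := cj_mono g⁻¹ hB
    rwa [cj_inv_cj] at this
  have h2 := h.2 _ h1
  rwa [card_cj, card_DFix_cj, ← card_cj g A, ← card_DFix_cj (D := D) g A] at h2

theorem ngood_cj {p : ℕ} {A : Subgroup G} (h : NGood p D A) (g : G) : NGood p D (cj g A) := by
  intro M hM hi z hz hz2 a ha haM
  have h1 : cj g⁻¹ M ≤ A := by
    have := cj_mono g⁻¹ hM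
    rwa [cj_inv_cj] at this
  have h2 : (cj g⁻¹ M).relIndex A = p := by
    rw [← hi]
    conv_rhs => rw [← cj_cj_inv g M]
    exact (Subgroup.relIndex_map_map_of_injective _ _ (MulAut.conj g).injective).symm
  have h3 := h _ h1 h2 (g⁻¹ • z) (fun m hm => by
    rw [mem_cj, inv_inv] at hm
    have h4 : m • g⁻¹ • z = g⁻¹ • (g * m * g⁻¹) • z := by rw [smul_smul, smul_smul]; congr 1; group
    rw [h4, hz _ hm]) (fun b hb => by
    have h4 : b • (p • (g⁻¹ • z)) = g⁻¹ • (g * b * g⁻¹) • (p • z) := by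
      rw [← smul_comm g⁻¹ p z, smul_smul, smul_smul]
      congr 1
      group
    rw [h4, hz2 _ (by rw [mem_cj]; simpa [mul_assoc] using hb), ← smul_comm g⁻¹ p z]) (g⁻¹ * a * g) (mem_cj.1 ha)
    (fun h4 => haM (by
      rw [mem_cj, inv_inv] at h4
      have : g * (g⁻¹ * a * g) * g⁻¹ = a := by group
      rwa [this] at h4))
  have h4 := congrArg (g • ·) h3
  simp only [Finset.smul_sum] at h4
  rw [smul_comm g p, smul_inv_smul] at h4
  rw [← h4]
  refine Finset.sum_congr rfl fun i _ => ?_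
  have h5 : (g⁻¹ * a * g) ^ i = g⁻¹ * a ^ i * g := by
    have := conj_pow (i := i) (a := g⁻¹) (b := a)
    rw [inv_inv] at this
    exact this
  rw [h5, smul_smul, smul_smul]
  congr 1
  group

theorem tv_cj {a : G} {f : D →+ ZMod 2} {z : D} (h : Tv a f z) (g : G) :
    Tv (g * a * g⁻¹) (f.comp (DistribSMul.toAddMonoidHom D g⁻¹)) (g • z) where
  ne_one := fun h1 => h.ne_one (by
    have : a = g⁻¹ * (g * a * g⁻¹) * g := by group
    rw [this, h1]
    group)
  sq := by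
    have : g * a * g⁻¹ * (g * a * g⁻¹) = g * (a * a) * g⁻¹ := by group
    rw [this, h.sq]
    group
  z_ne := fun h1 => h.z_ne ((smul_eq_zero_iff_eq g).1 h1)
  two_z := by rw [← smul_add, h.two_z, smul_zero]
  f_ne := fun h1 => h.f_ne (by
    ext d
    have := DFunLike.congr_fun h1 (g • d)
    simpa using this)
  fz := by
    change f (g⁻¹ • g • z) = 0
    rw [inv_smul_smul, h.fz]
  act := by
    intro d
    change _ = d + (f (g⁻¹ • d)).val • (g • z)
    have h1 : (g * a * g⁻¹) • d = g • a • g⁻¹ • d := by rw [smul_smul, smul_smul]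
    rw [h1, h.act, smul_add, smul_inv_smul, smul_comm g]

theorem isInv_Q0 : IsInv (Q0 G D) := by
  rintro g P ⟨A, hA, h1, h2⟩
  exact ⟨cj g A, cj_mono g hA, cj_ne_bot h1, bo_cj h2 g⟩

theorem isInv_Qs : IsInv (Qs G D) := by
  rintro g P ⟨A, hA, h1, h2, h3⟩
  exact ⟨cj g A, cj_mono g hA, cj_ne_bot h1, bo_cj h2 g, ngood_cj h3 g⟩

theorem isInv_Q1 : IsInv (Q1 G D) := by
  rintro g P ⟨a, ha, f, z, h⟩
  exact ⟨g * a * g⁻¹, by rw [mem_cj]; simpa [mul_assoc] using ha, _, _, tv_cj h g⟩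

variable {Ω : Type v} [MulAction G Ω]

theorem Wt_smul (g : G) (x : Ω) : Wt G D (g • x) = cj g (Wt G D x) := by
  have key : ∀ (g : G) (x : Ω), cj g (Wt G D x) ≤ Wt G D (g • x) := by
    intro g x
    unfold Wt
    rw [cj, MonoidHom.map_closure, Subgroup.closure_le]
    rintro _ ⟨a, ⟨ha, f, z, h⟩, rfl⟩
    apply Subgroup.subset_closure
    refine ⟨?_, _, _, tv_cj h g⟩
    rw [stabilizer_smul, mem_cj]
    change g⁻¹ * (g * a * g⁻¹) * g ∈ _
    simpa [mul_assoc] using ha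
  refine le_antisymm ?_ (key g x)
  have h1 := key g⁻¹ (g • x)
  rw [inv_smul_smul] at h1
  have h2 := cj_mono g h1
  rwa [cj_cj_inv] at h2

theorem Wt_le (x : Ω) : Wt G D x ≤ stabilizer G x := by
  unfold Wt
  rw [Subgroup.closure_le]
  exact fun a ha => ha.1

theorem smul_two_of_tv {a : G} {f : D →+ ZMod 2} {z : D} (h : Tv a f z) (d : D) : a • (2 • d) = 2 • d := by
  rw [smul_comm, h.act, smul_add, smul_comm, two_nsmul z, h.two_z, smul_zero, add_zero]

/-- `Wt` acts trivially on `2 D` -/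
theorem Wt_smul_two {x : Ω} {t : G} (ht : t ∈ Wt G D x) (d : D) : t • (2 • d) = 2 • d := by
  have h1 : Wt G D x ≤ fixingSubgroup G (Set.range fun d : D => 2 • d) := by
    unfold Wt
    rw [Subgroup.closure_le]
    rintro a ⟨-, f, z, h⟩
    rw [SetLike.mem_coe, mem_fixingSubgroup_iff]
    rintro _ ⟨d, rfl⟩
    exact smul_two_of_tv h d
  exact (mem_fixingSubgroup_iff G).1 (h1 ht) _ ⟨d, rfl⟩

end Mod

section Count

variable {G : Type u} [Group G] {Ω : Type v} [MulAction G Ω]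

/-- a `2`-group without fixed points acts on a set of even cardinality -/
theorem even_card_of_fixedPointFree {T : Subgroup G} [Finite T] (hT : IsPGroup 2 T) (Z : Finset Ω)
    (hZ : ∀ t ∈ T, ∀ y ∈ Z, t • y ∈ Z) (hfix : ∀ y ∈ Z, ¬ T ≤ stabilizer G y) : Even Z.card := by
  have : Fact (Nat.Prime 2) := ⟨Nat.prime_two⟩
  let _ : MulAction T {y // y ∈ Z} :=
    { smul := fun t y => ⟨(t : G) • y.1, hZ t t.2 y.1 y.2⟩
      one_smul := fun y => Subtype.ext (one_smul G y.1)
      mul_smul := fun a b y => Subtype.ext (mul_smul (a : G) (b : G) y.1) }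
  have h1 := hT.card_modEq_card_fixedPoints {y // y ∈ Z}
  have h2 : IsEmpty (fixedPoints T {y // y ∈ Z}) := by
    refine ⟨fun y => ?_⟩
    apply hfix y.1.1 y.1.2
    intro t ht
    exact congrArg Subtype.val (y.2 ⟨t, ht⟩)
  rw [Nat.card_of_isEmpty (α := fixedPoints T {y // y ∈ Z}), Nat.card_eq_fintype_card, Fintype.card_coe] at h1
  exact (Nat.even_iff).2 h1

end Count

section Exp

variable {D : Type w} [AddCommGroup D] [Finite D]

theorem exists_exp (hD : IsPTors 2 D) : ∃ k : ℕ, ∀ d : D, (2 ^ k : ℕ) • d = 0 := by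
  choose k hk using hD
  have := Fintype.ofFinite D
  refine ⟨∑ d, k d, fun d => ?_⟩
  obtain ⟨m, hm⟩ := Nat.exists_eq_add_of_le (Finset.single_le_sum (f := k) (fun _ _ => Nat.zero_le _)
    (Finset.mem_univ d))
  rw [hm, pow_add, mul_comm, mul_smul, hk, smul_zero]

/-- odd numbers are invertible on a finite abelian `2`-group -/
theorem exists_inv_mod (hD : IsPTors 2 D) : ∃ r : ℕ → ℕ, ∀ n, Odd n → ∀ d : D, r n • n • d = d := by
  obtain ⟨k, hk⟩ := exists_exp hD
  have h1 : ∀ n : ℕ, ∃ r : ℕ, Odd n → ∀ d : D, r • n • d = d := by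
    intro n
    by_cases hn : Odd n
    · have hc : Nat.Coprime n (2 ^ (k + 1)) := (Nat.coprime_two_right.2 hn).pow_right _
      obtain ⟨r, -, hr⟩ := Nat.exists_mul_mod_eq_one_of_coprime hc (Nat.one_lt_two_pow (Nat.succ_ne_zero k))
      refine ⟨r, fun _ d => ?_⟩
      rw [← mul_smul, mul_comm, ← Nat.div_add_mod (n * r) (2 ^ (k + 1)), hr, add_smul, one_smul, mul_comm, mul_smul]
      have h2 : (2 ^ (k + 1) : ℕ) • d = 0 := by rw [pow_succ, mul_comm, mul_smul, hk, smul_zero]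
      rw [h2, smul_zero, zero_add]
    · exact ⟨0, fun h => absurd h hn⟩
  choose r hr using h1
  exact ⟨r, hr⟩

end Exp

section Orb

variable {G : Type u} [Group G] [Finite G] {Ω : Type v} [MulAction G Ω] {Ω₀ : Finset Ω}

theorem isPGroup_of_orb (h0 : Orb2 G Ω₀) {x : Ω} (hx : x ∈ Ω₀) : IsPGroup 2 (stabilizer G x) := by
  obtain ⟨S, hS⟩ := h0.sylow x hx
  rw [← hS]
  exact S.isPGroup'

theorem exists_fix_orb (h0 : Orb2 G Ω₀) {P : Subgroup G} (hP : IsPGroup 2 P) :
    ∃ x ∈ Ω₀, P ≤ stabilizer G x := by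
  have : Fact (Nat.Prime 2) := ⟨Nat.prime_two⟩
  obtain ⟨x, hx⟩ : Ω₀.Nonempty := by
    rw [← Finset.card_pos]
    exact h0.odd.pos
  obtain ⟨S, hS⟩ := h0.sylow x hx
  obtain ⟨R, hR⟩ := hP.exists_le_sylow
  obtain ⟨g, hg⟩ := MulAction.exists_smul_eq G S R
  refine ⟨g • x, h0.smul_mem g x hx, ?_⟩
  rw [stabilizer_smul, ← hS]
  refine hR.trans (le_of_eq ?_)
  rw [← hg]
  rfl

end Orb

end Cfsg.Agent.H16.Lim
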