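import Cfsg.Agent.H16.Lim.Conj
import Cfsg.Agent.H539.Lim.AOne
import Cfsg.Agent.H309.Lim.Norm
import Cfsg.Agent.H71.Lim.COne

/-!
# Claim T, reduction to `2 c = 0` (helper16, for S5242, task C3)

* `twoPt` : the norm theorem for two-point functions on a Sylow orbit with values in a submodule;
* `reduceTwo`.
-/

set_option autoImplicit false
set_option linter.unusedSectionVars false
set_option linter.unusedVariables false

namespace Cfsg.Agent.H16.Lim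

open MulAction Cfsg.Agent.H539.Lim
open Cfsg.Agent.H309.Lim (van_Q)

universe u v w

section Tv

variable {G : Type u} [Group G] {D : Type w} [AddCommGroup D] [DistribMulAction G D]

theorem tv_iff {a : G} {f : D →+ ZMod 2} {z : D} : Cfsg.Agent.H71.Lim.Tv a f z ↔ Tv a f z :=
  ⟨fun h => ⟨h.ne_one, h.sq, h.z_ne, h.two_z, h.f_ne, h.fz, h.act⟩,
    fun h => ⟨h.ne_one, h.sq, h.z_ne, h.two_z, h.f_ne, h.fz, h.act⟩⟩

theorem exists_good_or_tv [Finite G] [Finite D] (hD : IsPTors 2 D) {A : Subgroup G} (hA : IsPGroup 2 A)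
    (hAB : BO D A) (h1 : A ≠ ⊥) :
    (∃ B : Subgroup G, B ≤ A ∧ B ≠ ⊥ ∧ BO D B ∧ NGood 2 D B) ∨
      ∃ a ∈ A, ∃ (f : D →+ ZMod 2) (z : D), Tv a f z := by
  rcases Cfsg.Agent.H71.Lim.exists_good_or_tv hD hA hAB h1 with h | ⟨a, ha, f, z, h⟩
  · exact Or.inl h
  · exact Or.inr ⟨a, ha, f, z, tv_iff.1 h⟩

theorem bo_of_tv [Finite G] [Finite D] {a : G} {f : D →+ ZMod 2} {z : D} (h : Tv a f z) :
    BO D (Subgroup.zpowers a) := (tv_iff.2 h).bo

end Tv

section Sub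

variable {G : Type u} [Group G] {Ω : Type v} [MulAction G Ω] {D : Type w} [AddCommGroup D]
  [DistribMulAction G D]

/-- norm-good on a subgroup `S` of `D` -/
def NGoodS (p : ℕ) (S : AddSubgroup D) (A : Subgroup G) : Prop :=
  ∀ M : Subgroup G, M ≤ A → M.relIndex A = p → ∀ z ∈ S, (∀ m ∈ M, m • z = z) →
    (∀ a ∈ A, a • (p • z) = p • z) → ∀ a ∈ A, a ∉ M → ∑ i ∈ Finset.range p, a ^ i • z = p • z

theorem NGoodS.of {p : ℕ} (S : AddSubgroup D) {A : Subgroup G} (h : NGood p D A) : NGoodS p S A :=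
  fun M hM hi z _ h1 h2 a ha haM => h M hM hi z h1 h2 a ha haM

/-- the action on a stable subgroup -/
@[reducible] def actS (S : AddSubgroup D) (hS : ∀ g : G, ∀ d ∈ S, g • d ∈ S) : DistribMulAction G S where
  smul g d := ⟨g • d.1, hS g _ d.2⟩
  one_smul d := Subtype.ext (one_smul G d.1)
  mul_smul a b d := Subtype.ext (mul_smul a b d.1)
  smul_zero g := Subtype.ext (smul_zero g)
  smul_add g a b := Subtype.ext (smul_add g a.1 b.1)

/-- the action on a stable set of points -/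
@[reducible] def actO (Ω₀ : Finset Ω) (h : ∀ g : G, ∀ y ∈ Ω₀, g • y ∈ Ω₀) : MulAction G {y // y ∈ Ω₀} where
  smul g y := ⟨g • y.1, h g _ y.2⟩
  one_smul y := Subtype.ext (one_smul G y.1)
  mul_smul a b y := Subtype.ext (mul_smul a b y.1)

/-- **the norm theorem, two-point functions on a Sylow orbit** -/
theorem twoPt [Finite G] [Finite D] (hD : IsPTors 2 D) {Ω₀ : Finset Ω} (h0 : Orb2 G Ω₀)
    (S : AddSubgroup D) (hS : ∀ g : G, ∀ d ∈ S, g • d ∈ S) (𝒜 : Set (Subgroup G)) (hi : IsInv 𝒜)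
    (hp : ∀ A ∈ 𝒜, IsPGroup 2 A) (hg : ∀ A ∈ 𝒜, NGoodS 2 S A) (c : Ω → Ω → D)
    (hcS : ∀ x ∈ Ω₀, ∀ y ∈ Ω₀, c x y ∈ S) (hc : ∀ g : G, ∀ x ∈ Ω₀, ∀ y ∈ Ω₀, c (g • x) (g • y) = g • c x y)
    (hcoc : ∀ x ∈ Ω₀, ∀ y ∈ Ω₀, ∀ z ∈ Ω₀, (∃ A ∈ 𝒜, A ≤ stabilizer G x ⊓ stabilizer G y ⊓ stabilizer G z) →
      c x z = c x y + c y z) :
    ∃ v : Ω → D, (∀ y, v y ∈ S) ∧ (∀ g : G, ∀ y ∈ Ω₀, v (g • y) = g • v y) ∧
      ∀ x ∈ Ω₀, ∀ y ∈ Ω₀, (∃ A ∈ 𝒜, A ≤ stabilizer G x ⊓ stabilizer G y) → c x y = v y - v x := by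
  classical
  have : Fact (Nat.Prime 2) := ⟨Nat.prime_two⟩
  let iS := actS S hS
  let iO := actO Ω₀ h0.smul_mem
  have hst : ∀ x : {y // y ∈ Ω₀}, stabilizer G x = stabilizer G x.1 := by
    intro x
    ext g
    rw [mem_stabilizer_iff, mem_stabilizer_iff]
    exact Subtype.ext_iff
  have hPS : PSet 2 G {y // y ∈ Ω₀} := by
    refine ⟨fun x => ?_, fun P hP => ?_⟩
    · rw [hst]
      exact isPGroup_of_orb h0 x.2
    · obtain ⟨x, hx, h1⟩ := exists_fix_orb h0 hP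
      exact ⟨⟨x, hx⟩, by rw [hst]; exact h1⟩
  have hDS : IsPTors 2 S := fun d => by
    obtain ⟨k, hk⟩ := hD d.1
    exact ⟨k, Subtype.ext hk⟩
  have hng : ∀ A ∈ 𝒜, NGood 2 S A := by
    intro A hA M hM hi z h1 h2 a ha haM
    apply Subtype.ext
    have h3 := hg A hA M hM hi z.1 z.2 (fun m hm => congrArg Subtype.val (h1 m hm))
      (fun b hb => congrArg Subtype.val (h2 b hb)) a ha haM
    rw [AddSubgroup.coe_nsmul, ← h3, AddSubgroup.val_finsetSum]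
    rfl
  have hV1 : IsUpperSet {P : Subgroup G | ∃ A ∈ 𝒜, A ≤ P} := fun P Q h ⟨A, hA, h1⟩ => ⟨A, hA, h1.trans h⟩
  have hV2 : IsInv {P : Subgroup G | ∃ A ∈ 𝒜, A ≤ P} := fun g P ⟨A, hA, h1⟩ => ⟨_, hi g A hA, cj_mono g h1⟩
  have h1 := van_Q hPS hDS 𝒜 hi hp hng 0
  obtain ⟨v, hv1, hv2⟩ := (van_one_iff hV1 hV2).1 h1 (fun x y => ⟨c x.1 y.1, hcS _ x.2 _ y.2⟩)
    (fun g x y => Subtype.ext (hc g _ x.2 _ y.2)) (fun x y z h => Subtype.ext (by
      rw [hst, hst, hst] at h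
      exact hcoc _ x.2 _ y.2 _ z.2 h))
  obtain ⟨v', e1, e2⟩ : ∃ v' : Ω → D, (∀ y (h : y ∈ Ω₀), v' y = v ⟨y, h⟩) ∧ ∀ y, y ∉ Ω₀ → v' y = 0 :=
    ⟨fun y => if h : y ∈ Ω₀ then (v ⟨y, h⟩ : D) else 0, fun y h => dif_pos h, fun y h => dif_neg h⟩
  refine ⟨v', fun y => ?_, fun g y hy => ?_, fun x hx y hy h => ?_⟩
  · by_cases h : y ∈ Ω₀
    · rw [e1 y h]
      exact (v ⟨y, h⟩).2
    · rw [e2 y h]
      exact S.zero_mem
  · rw [e1 y hy, e1 _ (h0.smul_mem g y hy)]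
    exact congrArg Subtype.val (hv1 g ⟨y, hy⟩)
  · rw [e1 x hx, e1 y hy]
    exact congrArg Subtype.val (hv2 ⟨x, hx⟩ ⟨y, hy⟩ (by rw [hst, hst]; exact h))

end Sub

section Main

variable {G : Type u} [Group G] [Finite G] {Ω : Type v} [MulAction G Ω] [Finite Ω] {D : Type w} [AddCommGroup D]
  [DistribMulAction G D] [Finite D]

/-- the subgroups `⟨a⟩`, `a` a transvection, and the norm-good best offenders -/
def AA (G : Type u) [Group G] (D : Type w) [AddCommGroup D] [DistribMulAction G D] : Set (Subgroup G) :=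
  {A | IsPGroup 2 A ∧ A ≠ ⊥ ∧ BO D A ∧ (NGood 2 D A ∨ ∀ t ∈ A, ∀ d : D, t • (2 • d) = 2 • d)}

theorem isInv_AA : IsInv (AA G D) := by
  rintro g A ⟨h1, h2, h3, h4⟩
  refine ⟨isPGroup_cj h1 g, cj_ne_bot h2, bo_cj h3 g, ?_⟩
  rcases h4 with h4 | h4
  · exact Or.inl (ngood_cj h4 g)
  · refine Or.inr fun t ht d => ?_
    rw [mem_cj] at ht
    have h5 : t • (2 • d) = g • (g⁻¹ * t * g) • (2 • (g⁻¹ • d)) := by
      rw [← smul_comm g⁻¹ 2 d, smul_smul, smul_smul]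
      congr 1
      group
    rw [h5, h4 _ ht, smul_comm g 2, smul_inv_smul]

theorem mem_Q0_iff (hD : IsPTors 2 D) {P : Subgroup G} (hP : IsPGroup 2 P) :
    P ∈ Q0 G D ↔ ∃ A ∈ AA G D, A ≤ P := by
  constructor
  · rintro ⟨A, hA, h1, h2⟩
    rcases exists_good_or_tv hD (hP.to_le hA) h2 h1 with ⟨B, hB, h3, h4, h5⟩ | ⟨a, ha, f, z, h3⟩
    · exact ⟨B, ⟨hP.to_le (hB.trans hA), h3, h4, Or.inl h5⟩, hB.trans hA⟩
    · have h4 : Subgroup.zpowers a ≤ P := (Subgroup.zpowers_le.2 ha).trans hA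
      refine ⟨Subgroup.zpowers a, ⟨hP.to_le h4, ?_, bo_of_tv h3, Or.inr ?_⟩, h4⟩
      · rw [Ne, Subgroup.zpowers_eq_bot]
        exact h3.ne_one
      · intro t ht d
        obtain ⟨n, rfl⟩ := Subgroup.mem_zpowers_iff.1 ht
        have h5 : a ∈ stabilizer G (2 • d) := smul_two_of_tv h3 d
        exact (Subgroup.zpow_mem _ h5 n : a ^ n ∈ stabilizer G (2 • d))
  · rintro ⟨A, ⟨h1, h2, h3, -⟩, hA⟩
    exact ⟨A, hA, h2, h3⟩

theorem mem_Qs_iff {P : Subgroup G} (hP : IsPGroup 2 P) :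
    P ∈ Qs G D ↔ ∃ A ∈ {A : Subgroup G | IsPGroup 2 A ∧ A ≠ ⊥ ∧ BO D A ∧ NGood 2 D A}, A ≤ P :=
  ⟨fun ⟨A, hA, h1, h2, h3⟩ => ⟨A, ⟨hP.to_le hA, h1, h2, h3⟩, hA⟩, fun ⟨A, ⟨_, h1, h2, h3⟩, hA⟩ => ⟨A, hA, h1, h2, h3⟩⟩

theorem Q0_of_Qs {P : Subgroup G} (h : P ∈ Qs G D) : P ∈ Q0 G D :=
  let ⟨A, hA, h1, h2, _⟩ := h
  ⟨A, hA, h1, h2⟩

theorem Q0_of_Q1 {P : Subgroup G} (h : P ∈ Q1 G D) : P ∈ Q0 G D := by
  obtain ⟨a, ha, f, z, h⟩ := h
  refine ⟨Subgroup.zpowers a, Subgroup.zpowers_le.2 ha, ?_, bo_of_tv h⟩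
  rw [Ne, Subgroup.zpowers_eq_bot]
  exact h.ne_one

theorem Q0_mono {P Q : Subgroup G} (hPQ : P ≤ Q) (h : P ∈ Q0 G D) : Q ∈ Q0 G D :=
  let ⟨A, hA, h1⟩ := h
  ⟨A, hA.trans hPQ, h1⟩

/-- **C3** -/
theorem reduceTwo (hΩ : PSet 2 G Ω) (hD : IsPTors 2 D) {Ω₀ : Finset Ω} (h0 : Orb2 G Ω₀) {c : Ω → Ω → D}
    (hc : Coc2 G Ω₀ c) (hfull : ∀ x y z, stabilizer G x ⊓ stabilizer G y ⊓ stabilizer G z ∈ Q0 G D →
      c x z = c x y + c y z)
    (hfaith : ∀ x ∈ Ω₀, ∀ g ∈ stabilizer G x, (∀ d : D, g • d = d) → g = 1)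
    (hTv : ∃ x ∈ Ω₀, stabilizer G x ∈ Q1 G D) :
    ∃ w : Ω → D, (∀ (g : G), ∀ y ∈ Ω₀, w (g • y) = g • w y) ∧
      (∀ x ∈ Ω₀, ∀ y ∈ Ω₀, stabilizer G x ⊓ stabilizer G y ∈ Q0 G D → 2 • (c x y - (w y - w x)) = 0) ∧
      ∀ x ∈ Ω₀, ∀ y ∈ Ω₀, stabilizer G x ⊓ stabilizer G y ∈ Qs G D → c x y = w y - w x := by
  classical
  have hpg : ∀ {x : Ω}, x ∈ Ω₀ → IsPGroup 2 (stabilizer G x) := fun hx => isPGroup_of_orb h0 hx
  -- step 1: `2 c = dd w1`
  let S2 : AddSubgroup D := (nsmulAddMonoidHom 2 : D →+ D).range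
  have hS2 : ∀ d : D, 2 • d ∈ S2 := fun d => ⟨d, rfl⟩
  have hS2s : ∀ g : G, ∀ d ∈ S2, g • d ∈ S2 := by
    rintro g _ ⟨d, rfl⟩
    refine ⟨g • d, ?_⟩
    change 2 • (g • d) = g • (2 • d)
    rw [smul_comm]
  obtain ⟨w1, hw1S, hw1e, hw1⟩ := twoPt hD h0 S2 hS2s (AA G D) isInv_AA (fun A h => h.1) (fun A h => by
    rcases h.2.2.2 with h1 | h1
    · exact NGoodS.of _ h1
    · rintro M hM hi _ ⟨z, rfl⟩ h2 h3 a ha haM
      change ∑ i ∈ Finset.range 2, a ^ i • (2 • z) = 2 • (2 • z)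
      rw [Finset.sum_range_succ, Finset.sum_range_one, pow_zero, one_smul, pow_one, h1 a ha, two_nsmul (2 • z)])
    (fun x y => 2 • c x y) (fun x _ y _ => hS2 _) (fun g x _ y _ => by
      rw [hc.equiv, smul_comm])
    (fun x hx y hy z hz h => by
      rw [← smul_add]
      congr 1
      refine hc.coc x hx y hy z hz ?_
      obtain ⟨A, hA, h1⟩ := h
      exact ⟨A, h1, hA.2.1, hA.2.2.1⟩)
  have hw1' : ∀ x ∈ Ω₀, ∀ y ∈ Ω₀, stabilizer G x ⊓ stabilizer G y ∈ Q0 G D → 2 • c x y = w1 y - w1 x := by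
    intro x hx y hy h
    exact hw1 x hx y hy ((mem_Q0_iff hD ((hpg hx).to_le inf_le_left)).1 h)
  -- step 2: subtract the mean value
  obtain ⟨r, hr⟩ := exists_inv_mod hD
  obtain ⟨u, hu⟩ : ∃ u : D, u = r Ω₀.card • ∑ y ∈ Ω₀, w1 y := ⟨_, rfl⟩
  have hsum : ∀ g : G, g • ∑ y ∈ Ω₀, w1 y = ∑ y ∈ Ω₀, w1 y := by
    intro g
    rw [Finset.smul_sum]
    refine Finset.sum_nbij' (fun y => g • y) (fun y => g⁻¹ • y) (fun y hy => h0.smul_mem g y hy)
      (fun y hy => h0.smul_mem g⁻¹ y hy) (fun y _ => inv_smul_smul g y) (fun y _ => smul_inv_smul g y)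
      (fun y hy => (hw1e g y hy).symm)
  have hug : ∀ g : G, g • u = u := fun g => by rw [hu, smul_comm, hsum]
  have huS : u ∈ S2 := by
    rw [hu]
    exact S2.nsmul_mem (S2.sum_mem fun y _ => hw1S y) _
  let w2 : Ω → D := fun y => w1 y - u
  have hw2S : ∀ y, w2 y ∈ S2 := fun y => S2.sub_mem (hw1S y) huS
  have hw2e : ∀ g : G, ∀ y ∈ Ω₀, w2 (g • y) = g • w2 y := fun g y hy => by
    change w1 (g • y) - u = g • (w1 y - u)
    rw [smul_sub, hw1e g y hy, hug]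
  have hw2 : ∀ x ∈ Ω₀, ∀ y ∈ Ω₀, stabilizer G x ⊓ stabilizer G y ∈ Q0 G D → 2 • c x y = w2 y - w2 x := by
    intro x hx y hy h
    rw [hw1' x hx y hy h]
    change _ = (w1 y - u) - (w1 x - u)
    abel
  have hw2sum : ∑ y ∈ Ω₀, w2 y = 0 := by
    change ∑ y ∈ Ω₀, (w1 y - u) = 0
    rw [Finset.sum_sub_distrib, Finset.sum_const, hu, smul_comm, hr _ h0.odd, sub_self]
  -- step 3: half of `w2`
  have hT2 : ∀ x ∈ Ω₀, ∀ t ∈ Wt G D x, ∀ y, t • w2 y = w2 y := by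
    intro x _ t ht y
    obtain ⟨d, hd⟩ := hw2S y
    rw [← hd]
    exact Wt_smul_two ht d
  have := Fintype.ofFinite D
  let Fx : Ω → Finset Ω := fun x => Ω₀.filter fun y => Wt G D x ≤ stabilizer G y
  let Zx : Ω → Finset Ω := fun x => Ω₀.filter fun y => ¬ Wt G D x ≤ stabilizer G y
  let e : Ω → D := fun x => ∑ y ∈ Fx x, c x y + ∑ d : D, (((Zx x).filter fun y => w2 y = d).card / 2) • d
  have hle : ∀ (g : G) (x y : Ω), Wt G D (g • x) ≤ stabilizer G (g • y) ↔ Wt G D x ≤ stabilizer G y := by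
    intro g x y
    rw [Wt_smul, stabilizer_smul, cj_le_cj]
  have hee : ∀ (g : G), ∀ x ∈ Ω₀, e (g • x) = g • e x := by
    intro g x hx
    change ∑ y ∈ Fx (g • x), c (g • x) y + ∑ d : D, (((Zx (g • x)).filter fun y => w2 y = d).card / 2) • d =
      g • (∑ y ∈ Fx x, c x y + ∑ d : D, (((Zx x).filter fun y => w2 y = d).card / 2) • d)
    rw [smul_add, Finset.smul_sum, Finset.smul_sum]
    congr 1
    · refine Finset.sum_nbij' (fun y => g⁻¹ • y) (fun y => g • y) ?_ ?_ (fun y _ => smul_inv_smul g y)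
        (fun y _ => inv_smul_smul g y) ?_
      · intro y hy
        obtain ⟨h1, h2⟩ := Finset.mem_filter.1 hy
        refine Finset.mem_filter.2 ⟨h0.smul_mem g⁻¹ y h1, ?_⟩
        rw [← hle g, smul_inv_smul]
        exact h2
      · intro y hy
        obtain ⟨h1, h2⟩ := Finset.mem_filter.1 hy
        exact Finset.mem_filter.2 ⟨h0.smul_mem g y h1, (hle g x y).2 h2⟩
      · intro y _
        rw [← hc.equiv, smul_inv_smul]
    · rw [← Equiv.sum_comp (MulAction.toPerm g : Equiv.Perm D)]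
      refine Finset.sum_congr rfl fun d _ => ?_
      change (((Zx (g • x)).filter fun y => w2 y = g • d).card / 2) • (g • d) = _
      rw [smul_comm g]
      congr 2
      refine Finset.card_nbij' (fun y => g⁻¹ • y) (fun y => g • y) ?_ ?_ (fun y _ => smul_inv_smul g y)
        (fun y _ => inv_smul_smul g y)
      · intro y hy
        obtain ⟨h1, h2⟩ := Finset.mem_filter.1 (Finset.mem_coe.1 hy)
        obtain ⟨h3, h4⟩ := Finset.mem_filter.1 h1
        refine Finset.mem_coe.2 (Finset.mem_filter.2 ⟨Finset.mem_filter.2 ⟨h0.smul_mem g⁻¹ y h3, ?_⟩, ?_⟩)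
        · rw [← hle g, smul_inv_smul]
          exact h4
        · rw [hw2e g⁻¹ y h3, h2, inv_smul_smul]
      · intro y hy
        obtain ⟨h1, h2⟩ := Finset.mem_filter.1 (Finset.mem_coe.1 hy)
        obtain ⟨h3, h4⟩ := Finset.mem_filter.1 h1
        refine Finset.mem_coe.2 (Finset.mem_filter.2 ⟨Finset.mem_filter.2 ⟨h0.smul_mem g y h3, ?_⟩, ?_⟩)
        · rw [hle]
          exact h4
        · rw [hw2e g y h3, h2]
  have hFcard : ∀ (g : G) (x : Ω), (Fx (g • x)).card = (Fx x).card := by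
    intro g x
    refine Finset.card_nbij' (fun y => g⁻¹ • y) (fun y => g • y) ?_ ?_ (fun y _ => smul_inv_smul g y)
      (fun y _ => inv_smul_smul g y)
    · intro y hy
      obtain ⟨h1, h2⟩ := Finset.mem_filter.1 (Finset.mem_coe.1 hy)
      refine Finset.mem_coe.2 (Finset.mem_filter.2 ⟨h0.smul_mem g⁻¹ y h1, ?_⟩)
      rw [← hle g, smul_inv_smul]
      exact h2
    · intro y hy
      obtain ⟨h1, h2⟩ := Finset.mem_filter.1 (Finset.mem_coe.1 hy)
      exact Finset.mem_coe.2 (Finset.mem_filter.2 ⟨h0.smul_mem g y h1, (hle g x y).2 h2⟩)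
  -- the transvections
  have hTv' : ∀ x ∈ Ω₀, ∃ a ∈ Wt G D x, ∃ (f : D →+ ZMod 2) (z : D), Tv a f z := by
    obtain ⟨x0, hx0, a, ha, f, z, h⟩ := hTv
    intro x hx
    obtain ⟨g, rfl⟩ := h0.trans x0 hx0 x hx
    refine ⟨g * a * g⁻¹, ?_, _, _, tv_cj h g⟩
    apply Subgroup.subset_closure
    refine ⟨?_, _, _, tv_cj h g⟩
    rw [stabilizer_smul, mem_cj]
    simpa [mul_assoc] using ha
  have hinvt : ∀ x ∈ Ω₀, ∀ t ∈ Wt G D x, ∀ y : Ω, Wt G D x ≤ stabilizer G (t • y) ↔ Wt G D x ≤ stabilizer G y := by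
    intro x hx t ht y
    have h1 := hle t x y
    have h2 : t • x = x := Wt_le x ht
    rwa [h2] at h1
  have hZeven : ∀ x ∈ Ω₀, ∀ d, Even ((Zx x).filter fun y => w2 y = d).card := by
    intro x hx d
    refine even_card_of_fixedPointFree (T := Wt G D x) ((hpg hx).to_le (Wt_le x)) _ ?_ ?_
    · intro t ht y hy
      obtain ⟨h1, h2⟩ := Finset.mem_filter.1 hy
      obtain ⟨h3, h4⟩ := Finset.mem_filter.1 h1
      refine Finset.mem_filter.2 ⟨Finset.mem_filter.2 ⟨h0.smul_mem t y h3, ?_⟩, ?_⟩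
      · rwa [hinvt x hx t ht]
      · rw [hw2e t y h3, hT2 x hx t ht, h2]
    · intro y hy
      exact (Finset.mem_filter.1 (Finset.mem_filter.1 hy).1).2
  have hFodd : ∀ x ∈ Ω₀, Odd (Fx x).card := by
    intro x hx
    have h1 : Even (Zx x).card := by
      refine even_card_of_fixedPointFree (T := Wt G D x) ((hpg hx).to_le (Wt_le x)) _ ?_ ?_
      · intro t ht y hy
        obtain ⟨h3, h4⟩ := Finset.mem_filter.1 hy
        refine Finset.mem_filter.2 ⟨h0.smul_mem t y h3, ?_⟩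
        rwa [hinvt x hx t ht]
      · intro y hy
        exact (Finset.mem_filter.1 hy).2
    have h2 : (Fx x).card + (Zx x).card = Ω₀.card := Finset.card_filter_add_card_filter_not _
    have h3 := h0.odd
    rw [← h2] at h3
    exact (Nat.odd_add.1 h3).2 h1
  have hkey : ∀ x ∈ Ω₀, (Fx x).card • w2 x + 2 • e x = 0 := by
    intro x hx
    have h1 : ∑ y ∈ Fx x, w2 y + ∑ y ∈ Zx x, w2 y = 0 := by
      rw [← hw2sum]
      exact Finset.sum_filter_add_sum_filter_not Ω₀ _ _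
    have h2 : ∑ y ∈ Fx x, w2 y = (Fx x).card • w2 x + 2 • ∑ y ∈ Fx x, c x y := by
      rw [Finset.smul_sum, ← Finset.sum_const, ← Finset.sum_add_distrib]
      refine Finset.sum_congr rfl fun y hy => ?_
      obtain ⟨h3, h4⟩ := Finset.mem_filter.1 hy
      obtain ⟨a, ha, f, z, h5⟩ := hTv' x hx
      rw [hw2 x hx y h3 (Q0_of_Q1 ⟨a, ⟨Wt_le x ha, h4 ha⟩, f, z, h5⟩)]
      abel
    have h3 : ∑ y ∈ Zx x, w2 y = 2 • ∑ d : D, (((Zx x).filter fun y => w2 y = d).card / 2) • d := by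
      rw [Finset.smul_sum, ← Finset.sum_fiberwise (Zx x) w2]
      refine Finset.sum_congr rfl fun d _ => ?_
      rw [Finset.sum_congr rfl (fun y hy => (Finset.mem_filter.1 hy).2), Finset.sum_const, ← mul_smul,
        Nat.mul_div_cancel' (hZeven x hx d).two_dvd]
    rw [h2, h3] at h1
    change (Fx x).card • w2 x + 2 • (∑ y ∈ Fx x, c x y + ∑ d : D, (((Zx x).filter fun y => w2 y = d).card / 2) • d) = 0
    rw [smul_add, ← add_assoc]
    exact h1
  let w' : Ω → D := fun x => - (r (Fx x).card • e x)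
  have hw'e : ∀ (g : G), ∀ y ∈ Ω₀, w' (g • y) = g • w' y := by
    intro g y hy
    change - (r (Fx (g • y)).card • e (g • y)) = g • - (r (Fx y).card • e y)
    rw [smul_neg, hFcard, hee g y hy, smul_comm g]
  have hw'2 : ∀ x ∈ Ω₀, 2 • w' x = w2 x := by
    intro x hx
    have h1 := hkey x hx
    have h2 : w2 x = r (Fx x).card • (Fx x).card • w2 x := (hr _ (hFodd x hx) _).symm
    have h3 : (Fx x).card • w2 x = - (2 • e x) := eq_neg_of_add_eq_zero_left h1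
    rw [h2, h3]
    change 2 • - (r (Fx x).card • e x) = _
    rw [smul_neg, smul_neg, smul_comm 2 (r (Fx x).card)]
  -- step 4: the values in `D[2]`
  let c1 : Ω → Ω → D := fun x y => c x y - (w' y - w' x)
  have hc1 : ∀ x ∈ Ω₀, ∀ y ∈ Ω₀, stabilizer G x ⊓ stabilizer G y ∈ Q0 G D → 2 • c1 x y = 0 := by
    intro x hx y hy h
    change 2 • (c x y - (w' y - w' x)) = 0
    rw [smul_sub, smul_sub, hw'2 x hx, hw'2 y hy, hw2 x hx y hy h, sub_self]
  let E : AddSubgroup D := (nsmulAddMonoidHom 2 : D →+ D).ker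
  have hE : ∀ {d : D}, d ∈ E ↔ 2 • d = 0 := AddMonoidHom.mem_ker
  have hEs : ∀ g : G, ∀ d ∈ E, g • d ∈ E := by
    intro g d hd
    rw [hE] at hd ⊢
    rw [smul_comm, hd, smul_zero]
  have hQinv : ∀ (g : G) (x y : Ω), stabilizer G (g • x) ⊓ stabilizer G (g • y) ∈ Q0 G D ↔
      stabilizer G x ⊓ stabilizer G y ∈ Q0 G D := by
    intro g x y
    rw [stabilizer_smul, stabilizer_smul, ← cj_inf]
    refine ⟨fun h => ?_, isInv_Q0 g _⟩
    have := isInv_Q0 g⁻¹ _ h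
    rwa [cj_inv_cj] at this
  let c3 : Ω → Ω → D := fun x y => if stabilizer G x ⊓ stabilizer G y ∈ Q0 G D then c1 x y else 0
  obtain ⟨w3, hw3S, hw3e, hw3⟩ := twoPt hD h0 E hEs
    {A : Subgroup G | IsPGroup 2 A ∧ A ≠ ⊥ ∧ BO D A ∧ NGood 2 D A}
    (fun g A h => ⟨isPGroup_cj h.1 g, cj_ne_bot h.2.1, bo_cj h.2.2.1 g, ngood_cj h.2.2.2 g⟩)
    (fun A h => h.1) (fun A h => NGoodS.of _ h.2.2.2) c3
    (fun x hx y hy => by
      by_cases h : stabilizer G x ⊓ stabilizer G y ∈ Q0 G D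
      · change (if _ then _ else _) ∈ E
        rw [if_pos h, hE]
        exact hc1 x hx y hy h
      · change (if _ then _ else _) ∈ E
        rw [if_neg h]
        exact E.zero_mem)
    (fun g x hx y hy => by
      change (if _ then _ else _) = g • (if _ then _ else _)
      by_cases h : stabilizer G x ⊓ stabilizer G y ∈ Q0 G D
      · rw [if_pos h, if_pos ((hQinv g x y).2 h)]
        change c (g • x) (g • y) - (w' (g • y) - w' (g • x)) = g • (c x y - (w' y - w' x))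
        rw [hc.equiv, hw'e g x hx, hw'e g y hy, smul_sub, smul_sub]
      · rw [if_neg h, if_neg (fun h1 => h ((hQinv g x y).1 h1)), smul_zero])
    (fun x hx y hy z hz ⟨A, hA, hA'⟩ => by
      have h1 : stabilizer G x ⊓ stabilizer G y ⊓ stabilizer G z ∈ Q0 G D := ⟨A, hA', hA.2.1, hA.2.2.1⟩
      change (if _ then _ else _) = (if _ then _ else _) + (if _ then _ else _)
      rw [if_pos (Q0_mono (le_inf (inf_le_left.trans inf_le_left) inf_le_right) h1), if_pos (Q0_mono inf_le_left h1),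
        if_pos (Q0_mono (le_inf (inf_le_left.trans inf_le_right) inf_le_right) h1)]
      change c x z - (w' z - w' x) = c x y - (w' y - w' x) + (c y z - (w' z - w' y))
      rw [hc.coc x hx y hy z hz h1]
      abel)
  refine ⟨fun y => w' y + w3 y, fun g y hy => ?_, fun x hx y hy h => ?_, fun x hx y hy h => ?_⟩
  · change w' (g • y) + w3 (g • y) = g • (w' y + w3 y)
    rw [hw'e g y hy, hw3e g y hy, smul_add]
  · have h1 := hc1 x hx y hy h
    change 2 • (c x y - (w' y - w' x)) = 0 at h1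
    have h2 := hE.1 (hw3S x)
    have h3 := hE.1 (hw3S y)
    change 2 • (c x y - ((w' y + w3 y) - (w' x + w3 x))) = 0
    have h4 : c x y - ((w' y + w3 y) - (w' x + w3 x)) = c x y - (w' y - w' x) - (w3 y - w3 x) := by abel
    rw [h4, smul_sub, h1, smul_sub, h2, h3, sub_self, sub_self]
  · have h1 := hw3 x hx y hy ((mem_Qs_iff ((hpg hx).to_le inf_le_left)).1 h)
    change (if _ then _ else _) = _ at h1
    rw [if_pos (Q0_of_Qs h)] at h1
    change c x y - (w' y - w' x) = w3 y - w3 x at h1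
    change c x y = (w' y + w3 y) - (w' x + w3 x)
    rw [sub_eq_iff_eq_add] at h1
    rw [h1]
    abel

end Main

end Cfsg.Agent.H16.Lim
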